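import Groth.Agent.FibreDim.Smooth
import Groth.Agent.FibreDim.Algebra
import Mathlib.AlgebraicGeometry.AffineSpace
import Mathlib.AlgebraicGeometry.ZariskisMainTheorem

/-!
# Quasi-finite morphisms to affine spaces near a point
-/

set_option linter.style.haveILetI false

universe u

open CategoryTheory CategoryTheory.Limits AlgebraicGeometry

namespace Groth.CMMor

theorem exists_fibreDimAt_eq_nat {X Y : Scheme.{u}} (f : X ⟶ Y) [LocallyOfFiniteType f] (x : X) :
    ∃ d : ℕ, FlatMor.fibreDimAt f x = d := by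
  obtain ⟨U, hU, hxU, -⟩ := exists_isAffineOpen_mem_and_subset (U := (⊤ : Y.Opens)) (x := f.base x) trivial
  obtain ⟨V, hV, hxV, hVU⟩ := exists_isAffineOpen_mem_and_subset (U := f ⁻¹ᵁ U) (x := x) hxU
  obtain ⟨n, hn⟩ := Groth.FibreDim.exists_height_bound_of_affine f hU hV hVU
  have hle := Groth.FibreDim.fibreDimAt_le_of_height_le f hxV (n := n) (hn _)
  have h0 : (0 : WithBot ℕ∞) ≤ FlatMor.fibreDimAt f x := Groth.SpectralTopology.localDim_nonneg _
  obtain ⟨a, ha⟩ := WithBot.ne_bot_iff_exists.1 (ne_bot_of_le_ne_bot (by simp) h0)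
  rw [← ha] at hle ⊢
  obtain ⟨d, rfl⟩ := ENat.ne_top_iff_exists.1 (ne_top_of_le_ne_top (ENat.coe_ne_top n) (WithBot.coe_le_coe.1 hle))
  exact ⟨d, rfl⟩

theorem fibreDimAt_affineSpace (S : Scheme.{u}) (d : ℕ) (w : ↥(𝔸(ULift.{u} (Fin d); S))) :
    FlatMor.fibreDimAt (𝔸(ULift.{u} (Fin d); S) ↘ S) w = d := by
  let σ := ULift.{u} (Fin d)
  obtain ⟨V, hV, hwV, -⟩ := exists_isAffineOpen_mem_and_subset (U := (⊤ : S.Opens))
    (x := (𝔸(σ; S) ↘ S).base w) trivial
  haveI : IsOpenImmersion (AffineSpace.map σ hV.fromSpec) :=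
    MorphismProperty.of_isPullback (AffineSpace.isPullback_map hV.fromSpec).flip inferInstance
  obtain ⟨t, ht⟩ : (𝔸(σ; S) ↘ S).base w ∈ Set.range hV.fromSpec.base := hV.range_fromSpec.ge hwV
  obtain ⟨w', hw', -⟩ := Scheme.Pullback.exists_preimage_pullback w t ht.symm
  let e := (AffineSpace.isPullback_map (n := σ) hV.fromSpec).isoPullback
  have hw : (AffineSpace.map σ hV.fromSpec).base (e.inv.base w') = w := by
    rw [← hw', ← Scheme.Hom.comp_apply, IsPullback.isoPullback_inv_fst]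
  rw [← hw, ← Groth.FibreDim.fibreDimAt_openImmersion_comp, AffineSpace.map_over,
    Groth.FibreDim.fibreDimAt_comp_injective _ _ hV.fromSpec.isOpenEmbedding.injective]
  let r : CommRingCat.of (MvPolynomial (Fin d) Γ(S, V)) ⟶ CommRingCat.of (MvPolynomial σ Γ(S, V)) :=
    (MvPolynomial.renameEquiv Γ(S, V) Equiv.ulift.symm).toRingEquiv.toCommRingCatIso.hom
  let m : 𝔸(σ; Spec Γ(S, V)) ⟶ Spec (CommRingCat.of (MvPolynomial (Fin d) Γ(S, V))) :=
    (AffineSpace.SpecIso σ Γ(S, V)).hom ≫ Spec.map r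
  haveI : IsIso r := inferInstanceAs (IsIso (RingEquiv.toCommRingCatIso _).hom)
  have hm : m ≫ Spec.map (CommRingCat.ofHom (algebraMap Γ(S, V) (MvPolynomial (Fin d) Γ(S, V)))) =
      𝔸(σ; Spec Γ(S, V)) ↘ Spec Γ(S, V) := by
    rw [← cancel_epi (AffineSpace.SpecIso σ Γ(S, V)).inv, AffineSpace.SpecIso_inv_over]
    simp only [m, Category.assoc, Iso.inv_hom_id_assoc]
    rw [← Spec.map_comp]
    congr 1
    refine CommRingCat.hom_ext (RingHom.ext fun a => ?_)
    exact MvPolynomial.rename_C _ a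
  rw [← hm, Groth.FibreDim.fibreDimAt_openImmersion_comp]
  exact Groth.FibreDim.fibreDimAt_spec_mvPolynomial _ _ _

theorem quasiFiniteAt_SpecMap {A B : CommRingCat.{u}} (φ : A ⟶ B) (hφ : φ.hom.FiniteType)
    (q : PrimeSpectrum B)
    (h : letI := φ.hom.toAlgebra; Algebra.QuasiFiniteAt A q.asIdeal) :
    (Spec.map φ).QuasiFiniteAt q := by
  letI := φ.hom.toAlgebra
  haveI : Algebra.FiniteType A B := hφ
  haveI : LocallyOfFiniteType (Spec.map φ) :=
    (HasRingHomProperty.Spec_iff (P := @LocallyOfFiniteType)).mpr hφ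
  rw [Scheme.Hom.quasiFiniteAt_iff_isOpen_singleton_asFiber, ← ((Spec.map φ).fiberHomeo _).isOpen_image]
  simp only [Set.image_singleton, Scheme.Hom.asFiber, Homeomorph.apply_symm_apply]
  exact (Algebra.quasiFiniteAt_iff_isOpen_singleton_fiber q).mp h

/-- Near a point of fibre dimension `d` there is a locally quasi-finite morphism to affine `d`-space. -/
theorem exists_lqf_toAffineSpace {X S : Scheme.{u}} (f : X ⟶ S) [LocallyOfFiniteType f] (x : X) (d : ℕ)
    (hd : FlatMor.fibreDimAt f x ≤ d) :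
    ∃ (U : X.Opens) (g : (U : Scheme.{u}) ⟶ 𝔸(ULift.{u} (Fin d); S)), x ∈ U ∧
      g ≫ (𝔸(ULift.{u} (Fin d); S) ↘ S) = U.ι ≫ f ∧ LocallyQuasiFinite g := by
  let σ := ULift.{u} (Fin d)
  obtain ⟨V, hV, hxV, -⟩ := exists_isAffineOpen_mem_and_subset (U := (⊤ : S.Opens)) (x := f.base x) trivial
  obtain ⟨W, hW, hxW, hWle⟩ := exists_isAffineOpen_mem_and_subset
    (U := f ⁻¹ᵁ V ⊓ ⟨_, Groth.FibreDim.isOpen_fibreDimAt_le f d⟩) (x := x) ⟨hxV, hd⟩
  have e : W ≤ f ⁻¹ᵁ V := hWle.trans inf_le_left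
  letI := (f.appLE V W e).hom.toAlgebra
  haveI : Algebra.FiniteType Γ(S, V) Γ(X, W) := f.finiteType_appLE hV hW e
  let q := hW.primeIdealOf ⟨x, hxW⟩
  let p : PrimeSpectrum Γ(S, V) := PrimeSpectrum.comap (algebraMap Γ(S, V) Γ(X, W)) q
  let Q := PrimeSpectrum.preimageEquivFiber Γ(S, V) Γ(X, W) p ⟨q, rfl⟩
  haveI : Nontrivial (p.asIdeal.Fiber Γ(X, W)) :=
    ⟨⟨0, 1, fun h01 => Q.isPrime.ne_top ((Ideal.eq_top_iff_one _).2 (h01 ▸ Q.asIdeal.zero_mem))⟩⟩
  have hdim : ringKrullDim (p.asIdeal.Fiber Γ(X, W)) ≤ d := by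
    refine (Groth.FibreDim.ringKrullDim_fiber_le f hV hW e p).trans ?_
    set y := hV.fromSpec.base p
    let O : (f.fiber y).Opens := f.fiberι y ⁻¹ᵁ W
    change topologicalKrullDim ↥(O.toScheme) ≤ _
    haveI : LocallyOfFiniteType (f.fiberToSpecResidueField y) :=
      inferInstanceAs (LocallyOfFiniteType (pullback.snd f (S.fromSpecResidueField y)))
    rw [Groth.FibreDim.dim_eq_iSup_localDim (k := S.residueField y) (O.ι ≫ f.fiberToSpecResidueField y)]
    refine iSup_le fun z => ?_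
    rw [Groth.FibreDim.localDim_eq_of_isOpenEmbedding O.ι.isOpenEmbedding z,
      ← Groth.FibreDim.fibreDimAt_fiberι f y]
    exact (hWle z.2).2
  obtain ⟨s, b, hs, hqf⟩ := Groth.FibreDim.exists_quasiFiniteAt_fibre p d hdim
  let b' : σ → Γ(X, W) := fun j => if h : j.down.val < s then b ⟨j.down.val, h⟩ else 0
  let φ : CommRingCat.of (MvPolynomial σ Γ(S, V)) ⟶ Γ(X, W) :=
    CommRingCat.ofHom (MvPolynomial.aeval (R := Γ(S, V)) b').toRingHom
  have hft : φ.hom.FiniteType := by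
    refine RingHom.FiniteType.of_comp_finiteType (f := (MvPolynomial.C : Γ(S, V) →+* MvPolynomial σ Γ(S, V))) ?_
    rw [show φ.hom.comp MvPolynomial.C = algebraMap Γ(S, V) Γ(X, W) from
      RingHom.ext fun a => MvPolynomial.aeval_C b' a]
    exact RingHom.finiteType_algebraMap.mpr inferInstance
  have hq : (Spec.map φ).QuasiFiniteAt q := by
    refine quasiFiniteAt_SpecMap φ hft q ?_
    have h1 := hqf q rfl
    letI aS : Algebra (MvPolynomial (Fin s) Γ(S, V)) Γ(X, W) := (MvPolynomial.aeval (R := Γ(S, V)) b).toRingHom.toAlgebra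
    haveI : Algebra.QuasiFiniteAt (MvPolynomial (Fin s) Γ(S, V)) q.asIdeal := h1
    letI aσ := φ.hom.toAlgebra
    let ρ : MvPolynomial σ Γ(S, V) →ₐ[Γ(S, V)] MvPolynomial (Fin s) Γ(S, V) :=
      MvPolynomial.aeval fun j => if h : j.down.val < s then MvPolynomial.X ⟨j.down.val, h⟩ else 0
    have hρ : Function.Surjective ρ := fun P => by
      refine ⟨MvPolynomial.rename (fun i => (ULift.up (Fin.castLE hs i) : σ)) P, ?_⟩
      have : ρ.comp (MvPolynomial.rename fun i => (ULift.up (Fin.castLE hs i) : σ)) = AlgHom.id _ _ := by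
        refine MvPolynomial.algHom_ext fun i => ?_
        simp [ρ]
      exact congr($this P)
    letI := ρ.toRingHom.toAlgebra
    haveI : IsScalarTower (MvPolynomial σ Γ(S, V)) (MvPolynomial (Fin s) Γ(S, V)) Γ(X, W) := by
      refine IsScalarTower.of_algebraMap_eq fun P => ?_
      show MvPolynomial.aeval b' P = MvPolynomial.aeval b (ρ P)
      refine congr($(MvPolynomial.algHom_ext (f := MvPolynomial.aeval b') (g := (MvPolynomial.aeval b).comp ρ) fun j => ?_) P)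
      by_cases h : j.down.val < s <;> simp [ρ, b', h]
    haveI : Algebra.QuasiFinite (MvPolynomial σ Γ(S, V)) (MvPolynomial (Fin s) Γ(S, V)) :=
      .of_surjective_algHom (Algebra.ofId (MvPolynomial σ Γ(S, V)) (MvPolynomial (Fin s) Γ(S, V))) hρ
    haveI : IsScalarTower (MvPolynomial σ Γ(S, V)) (MvPolynomial (Fin s) Γ(S, V)) (Localization.AtPrime q.asIdeal) :=
      IsScalarTower.to₁₂₄ _ _ Γ(X, W) _
    exact Algebra.QuasiFinite.trans (MvPolynomial σ Γ(S, V)) (MvPolynomial (Fin s) Γ(S, V)) _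
  haveI : IsOpenImmersion (AffineSpace.map σ hV.fromSpec) :=
    MorphismProperty.of_isPullback (AffineSpace.isPullback_map hV.fromSpec).flip inferInstance
  let rest : Spec (CommRingCat.of (MvPolynomial σ Γ(S, V))) ⟶ 𝔸(σ; S) :=
    (AffineSpace.SpecIso σ Γ(S, V)).inv ≫ AffineSpace.map σ hV.fromSpec
  haveI : IsOpenImmersion rest := inferInstanceAs (IsOpenImmersion (_ ≫ _))
  let g0 : Spec Γ(X, W) ⟶ 𝔸(σ; S) := Spec.map φ ≫ rest
  haveI : LocallyOfFiniteType (Spec.map φ) := (HasRingHomProperty.Spec_iff (P := @LocallyOfFiniteType)).mpr hft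
  have hover : g0 ≫ (𝔸(σ; S) ↘ S) = hW.fromSpec ≫ f := by
    simp only [g0, rest, Category.assoc, AffineSpace.map_over]
    rw [AffineSpace.SpecIso_inv_over_assoc, ← hV.SpecMap_appLE_fromSpec f hW e, ← Spec.map_comp_assoc]
    congr 2
    refine CommRingCat.hom_ext (RingHom.ext fun a => ?_)
    exact MvPolynomial.aeval_C b' a
  let L := g0.quasiFiniteLocus
  have hqL : (q : Spec Γ(X, W)) ∈ L := (Scheme.Hom.quasiFiniteAt_comp_iff (g := rest)).2 hq
  haveI : IsOpenImmersion (L.ι ≫ hW.fromSpec) := inferInstance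
  refine ⟨(L.ι ≫ hW.fromSpec).opensRange,
    (L.ι ≫ hW.fromSpec).isoOpensRange.inv ≫ L.ι ≫ g0,
    ⟨⟨q, hqL⟩, hW.fromSpec_primeIdealOf ⟨x, hxW⟩⟩, ?_, inferInstance⟩
  rw [Category.assoc, Category.assoc, hover, ← Category.assoc L.ι, ← Category.assoc]
  rw [Scheme.Hom.isoOpensRange_inv_comp]

end Groth.CMMor
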