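import Groth.Agent.CMMor.Field
import Groth.Agent.CMMor.QFChart
import Groth.Agent.FlatMor2.FibCrit.Fibrewise
import Groth.Agent.GrpschAbsch.AffineSpaceExtra
import Groth.Agent.VarietyBC.SmoothChart
import Groth.Agent.Ega4Algebra2.CMEquiv
import Groth.Agent.FibreDim.Retrocompact
import Groth.Agent.SpectralTopology.FpCancel
import Groth.Prelude.Def_MoreMor

/-!
# Cohen–Macaulay points of morphisms: flat quasi-finite maps to affine spaces
-/

set_option linter.style.haveILetI false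

universe u

open CategoryTheory CategoryTheory.Limits AlgebraicGeometry IsLocalRing

namespace Groth.CMMor

theorem isRegularLocalRing_stalk_fiber {Y S : Scheme.{u}} (p : Y ⟶ S) [Smooth p] (s : S) (z : p.fiber s) :
    IsRegularLocalRing ((p.fiber s).presheaf.stalk z) := by
  letI : (p.fiber s).Over (Spec (CommRingCat.of (S.residueField s))) := ⟨p.fiberToSpecResidueField s⟩
  haveI : Smooth ((p.fiber s) ↘ Spec (CommRingCat.of (S.residueField s))) :=
    inferInstanceAs (Smooth (Limits.pullback.snd p (S.fromSpecResidueField s)))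
  refine Groth.VarietyBC.isRegularLocalRing_of_mem_smoothLocus (k := S.residueField s) ?_
  rw [Scheme.Hom.smoothLocus_eq_top]
  trivial

/-- A morphism which is locally quasi-finite over affine `d`-space is flat at exactly the points
where it is Cohen–Macaulay over the base of relative dimension `d`. -/
theorem flat_stalkMap_iff_isCMAt {X S : Scheme.{u}} {d : ℕ} (g : X ⟶ 𝔸(ULift.{u} (Fin d); S))
    [LocallyQuasiFinite g] [LocallyOfFinitePresentation (g ≫ (𝔸(ULift.{u} (Fin d); S) ↘ S))] (x : X) :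
    (g.stalkMap x).hom.Flat ↔
      MoreMor.IsCMAt (g ≫ (𝔸(ULift.{u} (Fin d); S) ↘ S)) x ∧
        FlatMor.fibreDimAt (g ≫ (𝔸(ULift.{u} (Fin d); S) ↘ S)) x = d := by
  let p := 𝔸(ULift.{u} (Fin d); S) ↘ S
  haveI : Smooth p := Groth.GrpschAbsch.smooth_affineSpace _ S
  haveI : LocallyOfFiniteType g := locallyOfFiniteType_of_comp g p
  let s := p.base (g.base x)
  let z : (g ≫ p).fiber s := (g ≫ p).asFiber x
  let h := MoreMor.fiberMap g p s
  haveI : LocallyQuasiFinite h :=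
    MorphismProperty.of_isPullback (Groth.FlatMor2.FibCrit.isPullback_fiberMap g p s) inferInstance
  haveI : LocallyOfFiniteType ((g ≫ p).fiberToSpecResidueField s) :=
    inferInstanceAs (LocallyOfFiniteType (pullback.snd (g ≫ p) (S.fromSpecResidueField s)))
  haveI : LocallyOfFiniteType (p.fiberToSpecResidueField s) :=
    inferInstanceAs (LocallyOfFiniteType (pullback.snd p (S.fromSpecResidueField s)))
  haveI := isRegularLocalRing_stalk_fiber p s (h.base z)
  have hd : FlatMor.localDim (p.fiber s) (h.base z) = d := by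
    rw [← Groth.FibreDim.fibreDimAt_fiberι p s, fibreDimAt_affineSpace]
  have key := flat_stalkMap_iff (k := S.residueField s) ((g ≫ p).fiberToSpecResidueField s)
    (p.fiberToSpecResidueField s) h (pullback.lift_snd _ _ _) z d hd
  have crit := Groth.FlatMor2.FibCrit.structureSheaf_iff g p x
  constructor
  · intro hg
    obtain ⟨hflat, hfib⟩ := crit.mpr ⟨Flat.stalkMap p (g x), hg⟩
    exact ⟨⟨hflat, (key.mp hfib).1⟩, (key.mp hfib).2⟩
  · rintro ⟨⟨hflat, hcm⟩, hdim⟩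
    exact (crit.mp ⟨hflat, key.mpr ⟨hcm, hdim⟩⟩).2

theorem isCMAt_openImmersion_comp {V X S : Scheme.{u}} (j : V ⟶ X) [IsOpenImmersion j] (f : X ⟶ S)
    (v : V) : MoreMor.IsCMAt (j ≫ f) v ↔ MoreMor.IsCMAt f (j.base v) := by
  have hbij : Function.Bijective (j.stalkMap v).hom := ConcreteCategory.bijective_of_isIso _
  let e : X.presheaf.stalk (j.base v) ≃+* V.presheaf.stalk v := RingEquiv.ofBijective _ hbij
  have hst : ((j ≫ f).stalkMap v).hom = e.toRingHom.comp (f.stalkMap (j.base v)).hom := by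
    rw [Scheme.Hom.stalkMap_comp]
    rfl
  obtain ⟨e₁⟩ := Groth.Ega4b.nonempty_fiberStalk_equiv (j ≫ f) v
  obtain ⟨e₂⟩ := Groth.Ega4b.nonempty_fiberStalk_equiv f (j.base v)
  let e₃ := Ideal.quotientEquiv ((maximalIdeal (S.presheaf.stalk (f (j.base v)))).map (f.stalkMap (j.base v)).hom)
    ((maximalIdeal (S.presheaf.stalk ((j ≫ f) v))).map ((j ≫ f).stalkMap v).hom) e (by
      rw [hst]; exact (Ideal.map_map _ _).symm)
  refine and_congr ⟨fun h => ?_, fun h => ?_⟩ ⟨fun h => ?_, fun h => ?_⟩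
  · have h' : (e.symm.toRingHom.comp ((j ≫ f).stalkMap v).hom).Flat :=
      h.comp (RingHom.Flat.of_bijective e.symm.bijective)
    have key : e.symm.toRingHom.comp ((j ≫ f).stalkMap v).hom = (f.stalkMap (j.base v)).hom := by
      rw [hst]
      exact RingHom.ext fun a => e.symm_apply_apply _
    exact (congrArg RingHom.Flat key).mp h'
  · rw [hst]
    exact h.comp (RingHom.Flat.of_bijective e.bijective)
  · exact Groth.Ega4b.isCohenMacaulayLocalRing_of_ringEquiv (e₁.symm.trans (e₃.symm.trans e₂)) h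
  · exact Groth.Ega4b.isCohenMacaulayLocalRing_of_ringEquiv (e₂.symm.trans (e₃.trans e₁)) h

/-- Quasi-finite charts detecting Cohen–Macaulay points. -/
theorem exists_cm_chart {X S : Scheme.{u}} (f : X ⟶ S) [LocallyOfFinitePresentation f] (x : X) (d : ℕ)
    (hd : FlatMor.fibreDimAt f x ≤ d) :
    ∃ (U : X.Opens) (g : (U : Scheme.{u}) ⟶ 𝔸(ULift.{u} (Fin d); S)), x ∈ U ∧
      g ≫ (𝔸(ULift.{u} (Fin d); S) ↘ S) = U.ι ≫ f ∧ LocallyQuasiFinite g ∧
      LocallyOfFinitePresentation g ∧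
      ∀ u : (U : Scheme.{u}), (g.stalkMap u).hom.Flat ↔ MoreMor.IsCMAt f u.1 ∧ FlatMor.fibreDimAt f u.1 = d := by
  obtain ⟨U, g, hxU, hg, hqf⟩ := exists_lqf_toAffineSpace f x d hd
  haveI : LocallyOfFinitePresentation (g ≫ (𝔸(ULift.{u} (Fin d); S) ↘ S)) := hg ▸ inferInstance
  refine ⟨U, g, hxU, hg, hqf, Groth.SpectralTopology.lfp_of_comp g (𝔸(ULift.{u} (Fin d); S) ↘ S), fun u => ?_⟩
  rw [flat_stalkMap_iff_isCMAt, hg, isCMAt_openImmersion_comp, Groth.FibreDim.fibreDimAt_openImmersion_comp]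
  rfl

theorem isOpen_flat_stalkMap {X S : Scheme.{u}} {d : ℕ} (g : X ⟶ 𝔸(ULift.{u} (Fin d); S))
    [LocallyOfFinitePresentation (g ≫ (𝔸(ULift.{u} (Fin d); S) ↘ S))] :
    IsOpen {x : X | (g.stalkMap x).hom.Flat} := by
  haveI : Smooth (𝔸(ULift.{u} (Fin d); S) ↘ S) := Groth.GrpschAbsch.smooth_affineSpace _ S
  convert Groth.FlatMor2.FibCrit.isOpen_structureSheaf g (𝔸(ULift.{u} (Fin d); S) ↘ S) using 1
  ext x
  exact ⟨fun h => ⟨Flat.stalkMap _ _, h⟩, fun h => h.2⟩

/-- Around a Cohen–Macaulay point all points are Cohen–Macaulay with the same fibre dimension. -/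
theorem exists_nhd_isCMAt {X S : Scheme.{u}} (f : X ⟶ S) [LocallyOfFinitePresentation f] (x : X)
    (h : MoreMor.IsCMAt f x) :
    ∃ U : X.Opens, x ∈ U ∧ ∀ y ∈ U, MoreMor.IsCMAt f y ∧ FlatMor.fibreDimAt f y = FlatMor.fibreDimAt f x := by
  obtain ⟨d, hd⟩ := exists_fibreDimAt_eq_nat f x
  obtain ⟨U, g, hxU, hg, -, -, hiff⟩ := exists_cm_chart f x d hd.le
  haveI : LocallyOfFinitePresentation (g ≫ (𝔸(ULift.{u} (Fin d); S) ↘ S)) := hg ▸ inferInstance
  let O : (U : Scheme.{u}).Opens := ⟨_, isOpen_flat_stalkMap g⟩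
  refine ⟨U.ι ''ᵁ O, ⟨⟨x, hxU⟩, (hiff ⟨x, hxU⟩).2 ⟨h, hd⟩, rfl⟩, ?_⟩
  rintro _ ⟨u, hu, rfl⟩
  rw [hd]
  exact (hiff u).1 hu

theorem isOpen_isCMAt {X S : Scheme.{u}} (f : X ⟶ S) [LocallyOfFinitePresentation f] :
    IsOpen {x : X | MoreMor.IsCMAt f x} := by
  rw [isOpen_iff_forall_mem_open]
  intro x hx
  obtain ⟨U, hxU, hU⟩ := exists_nhd_isCMAt f x hx
  exact ⟨U, fun y hy => (hU y hy).1, U.isOpen, hxU⟩

/-- Quasi-finite flat charts characterise Cohen–Macaulay points. -/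
theorem isCMAt_of_chart {X S : Scheme.{u}} (f : X ⟶ S) [LocallyOfFinitePresentation f] {d : ℕ}
    (U : X.Opens) (g : (U : Scheme.{u}) ⟶ 𝔸(ULift.{u} (Fin d); S)) [LocallyQuasiFinite g]
    (hg : g ≫ (𝔸(ULift.{u} (Fin d); S) ↘ S) = U.ι ≫ f) (u : (U : Scheme.{u}))
    (hflat : (g.stalkMap u).hom.Flat) :
    MoreMor.IsCMAt f u.1 ∧ FlatMor.fibreDimAt f u.1 = d := by
  haveI : LocallyOfFinitePresentation (g ≫ (𝔸(ULift.{u} (Fin d); S) ↘ S)) := hg ▸ inferInstance
  have := (flat_stalkMap_iff_isCMAt g u).1 hflat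
  rw [hg, isCMAt_openImmersion_comp, Groth.FibreDim.fibreDimAt_openImmersion_comp] at this
  exact this

end Groth.CMMor
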