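import Groth.Agent.CMMor.Locus
import Groth.Agent.PropsBasic.LociBaseChange.Scheme

/-!
# Constructibility of the set of smooth points of the fibres
-/

set_option linter.style.haveILetI false

universe u

open CategoryTheory CategoryTheory.Limits AlgebraicGeometry IsLocalRing Topology

namespace Groth.CMMor

instance {X S : Scheme.{u}} (f : X ⟶ S) [LocallyOfFinitePresentation f] (s : S) :
    LocallyOfFinitePresentation (f.fiberToSpecResidueField s) :=
  inferInstanceAs (LocallyOfFinitePresentation (pullback.snd f (S.fromSpecResidueField s)))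

/-- The fibre of `f` through `x` is smooth at `x`. -/
def IsSmoothFibreAt {X S : Scheme.{u}} (f : X ⟶ S) [LocallyOfFinitePresentation f] (x : X) : Prop :=
  f.asFiber x ∈ (f.fiberToSpecResidueField (f.base x)).smoothLocus

theorem isSmoothFibreAt_iff {X S : Scheme.{u}} (f : X ⟶ S) [LocallyOfFinitePresentation f] (s : S)
    (z : f.fiber s) :
    IsSmoothFibreAt f ((f.fiberι s).base z) ↔ z ∈ (f.fiberToSpecResidueField s).smoothLocus := by
  have key : ∀ (t : S) (w : f.fiber t) (x : X), (f.fiberι t).base w = x → t = f.base x →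
      (IsSmoothFibreAt f x ↔ w ∈ (f.fiberToSpecResidueField t).smoothLocus) := by
    intro t w x hw ht
    subst ht
    have : w = f.asFiber x :=
      (f.fiberι _).isEmbedding.injective (hw.trans (f.fiberι_asFiber x).symm)
    subst this
    rfl
  exact key s z _ rfl ((f.range_fiberι s).le ⟨z, rfl⟩).symm

theorem isSmoothFibreAt_baseChange_iff {X Y X' Y' : Scheme.{u}} (f : X ⟶ Y) (g : Y' ⟶ Y) (f' : X' ⟶ Y')
    (g' : X' ⟶ X) (hc : IsPullback g' f' f g) [LocallyOfFinitePresentation f] [LocallyOfFinitePresentation f']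
    (x' : X') : IsSmoothFibreAt f' x' ↔ IsSmoothFibreAt f (g'.base x') := by
  obtain ⟨y', z', rfl⟩ : ∃ (y' : Y') (z' : f'.fiber y'), (f'.fiberι y').base z' = x' :=
    ⟨_, _, f'.fiberι_asFiber x'⟩
  obtain ⟨q, hq1, hsq⟩ := exists_fiber_map f g f' g' hc y'
  rw [isSmoothFibreAt_iff, ← Scheme.Hom.comp_apply, ← hq1, Scheme.Hom.comp_apply, isSmoothFibreAt_iff]
  haveI : Flat (Spec.map (g.residueFieldMap y')) :=
    flat_SpecMap_field (k := Y.residueField (g.base y')) (K := Y'.residueField y') (g.residueFieldMap y')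
  exact ⟨fun h => Groth.PropsBasic.Loci.mem_smoothLocus_of_flat hsq h,
    fun h => Groth.PropsBasic.Loci.preimage_smoothLocus_le hsq h⟩

theorem isSmoothFibreAt_of_mem_smoothLocus {X S : Scheme.{u}} (f : X ⟶ S) [LocallyOfFinitePresentation f]
    (x : X) (hx : x ∈ f.smoothLocus) : IsSmoothFibreAt f x :=
  Groth.PropsBasic.Loci.preimage_smoothLocus_le
    (IsPullback.of_hasPullback f (S.fromSpecResidueField (f x)))
    (show f.fiberι (f x) (f.asFiber x) ∈ f.smoothLocus by rw [f.fiberι_asFiber]; exact hx)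

theorem isSmoothFibreAt_openImmersion_comp {V X S : Scheme.{u}} (j : V ⟶ X) [IsOpenImmersion j]
    (f : X ⟶ S) [LocallyOfFinitePresentation f] [LocallyOfFinitePresentation (j ≫ f)]
    (v : V) : IsSmoothFibreAt (j ≫ f) v ↔ IsSmoothFibreAt f (j.base v) := by
  obtain ⟨s, z, rfl⟩ : ∃ (s : S) (z : (j ≫ f).fiber s), ((j ≫ f).fiberι s).base z = v :=
    ⟨_, _, (j ≫ f).fiberι_asFiber v⟩
  let q := MoreMor.fiberMap j f s
  have hq1 : q ≫ f.fiberι s = (j ≫ f).fiberι s ≫ j := pullback.lift_fst ..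
  have hq2 : q ≫ f.fiberToSpecResidueField s = (j ≫ f).fiberToSpecResidueField s := pullback.lift_snd ..
  haveI : IsOpenImmersion q :=
    MorphismProperty.of_isPullback (Groth.FlatMor2.FibCrit.isPullback_fiberMap j f s) inferInstance
  rw [isSmoothFibreAt_iff, ← Scheme.Hom.comp_apply, ← hq1, Scheme.Hom.comp_apply, isSmoothFibreAt_iff]
  have key : ∀ (m m' : (j ≫ f).fiber s ⟶ Spec (S.residueField s)) (_ : m = m')
      [LocallyOfFinitePresentation m] [LocallyOfFinitePresentation m'],
      z ∈ m.smoothLocus ↔ z ∈ m'.smoothLocus := by rintro _ _ rfl _ _; rfl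
  refine (key _ _ hq2.symm).trans ?_
  rw [← Scheme.Hom.preimage_smoothLocus_eq]
  rfl

theorem isConstructible_smoothFibre {X S : Scheme.{u}} (f : X ⟶ S) [IsNoetherian X] [IsLocallyNoetherian S]
    [LocallyOfFinitePresentation f] : IsConstructible {x : X | IsSmoothFibreAt f x} := by
  refine Groth.SpectralTopology.isConstructible_of_forall_irreducible fun Z hZ hirr => ?_
  obtain ⟨ζ, hζ⟩ := QuasiSober.sober hirr hZ
  let C : TopologicalSpace.Closeds ↥S := ⟨closure {f.base ζ}, isClosed_closure⟩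
  let I := Scheme.IdealSheafData.vanishingIdeal C
  have hrange : Set.range I.subschemeι.base = closure {f.base ζ} := by
    rw [Scheme.IdealSheafData.range_subschemeι]
    exact Scheme.IdealSheafData.coe_support_vanishingIdeal C
  obtain ⟨η, hη⟩ : f.base ζ ∈ Set.range I.subschemeι.base := hrange ▸ subset_closure rfl
  haveI : IsLocallyNoetherian I.subscheme := LocallyOfFiniteType.isLocallyNoetherian I.subschemeι
  let f' := pullback.snd f I.subschemeι
  let i := pullback.fst f I.subschemeι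
  haveI : LocallyOfFinitePresentation f' := MorphismProperty.pullback_snd _ _ inferInstance
  have hZr : Z ⊆ Set.range i.base := by
    intro z hz
    obtain ⟨t, ht⟩ : f.base z ∈ Set.range I.subschemeι.base :=
      hrange ▸ specializes_iff_mem_closure.1 ((hζ.specializes hz).map f.continuous)
    obtain ⟨p, hp, -⟩ := Scheme.Pullback.exists_preimage_pullback (f := f) (g := I.subschemeι) z t ht.symm
    exact ⟨p, hp⟩
  have hζZ : ζ ∈ Z := hζ.def ▸ subset_closure rfl
  obtain ⟨p, hp⟩ := hZr hζZ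
  have hfp : f'.base p = η := by
    refine I.subschemeι.isEmbedding.injective ?_
    rw [hη, ← hp, ← Scheme.Hom.comp_apply, ← pullback.condition, Scheme.Hom.comp_apply]
  -- `f'` is flat at `p`
  have hflat : (f'.stalkMap p).hom.Flat := by
    haveI : AlgebraicGeometry.IsReduced I.subscheme := Groth.PropsBasic2.isReduced_vanishingIdeal_subscheme C
    have hfield : IsField (I.subscheme.presheaf.stalk (f'.base p)) := by
      rw [hfp]
      refine isField_stalk_of_closure_mem_irreducibleComponents _ _ ⟨isIrreducible_singleton.closure, fun T hT hle t ht => ?_⟩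
      rw [← specializes_iff_mem_closure, ← I.subschemeι.isEmbedding.isInducing.specializes_iff, hη,
        specializes_iff_mem_closure]
      exact hrange.le ⟨t, rfl⟩
    letI := (f'.stalkMap p).hom.toAlgebra
    letI := hfield.toField
    show Module.Flat _ _
    infer_instance
  have hiff : ∀ v, IsSmoothFibreAt f (i.base v) ↔ IsSmoothFibreAt f' v := fun v =>
    (isSmoothFibreAt_baseChange_iff f I.subschemeι f' i (IsPullback.of_hasPullback f I.subschemeι) v).symm
  by_cases hE : IsSmoothFibreAt f ζ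
  · right
    obtain ⟨U, hU, hUV⟩ := i.isEmbedding.isInducing.isOpen_iff.1 f'.smoothLocus.2
    have hpV : p ∈ f'.smoothLocus :=
      Groth.PropsBasic.Loci.mem_smoothLocus_of_fiber hflat ((hiff p).1 (hp.symm ▸ hE))
    refine ⟨U, hU, ⟨ζ, hp ▸ (hUV.ge hpV : p ∈ i.base ⁻¹' U), hζZ⟩, ?_⟩
    rintro z ⟨hzU, hzZ⟩
    obtain ⟨v, rfl⟩ := hZr hzZ
    exact (hiff v).2 (isSmoothFibreAt_of_mem_smoothLocus f' v (hUV.le hzU))
  · left
    obtain ⟨U, hU, hUV⟩ := i.isEmbedding.isInducing.isOpen_iff.1 (isOpen_flatAt f')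
    have hζU : ζ ∈ U := hp ▸ (hUV.ge hflat : p ∈ i.base ⁻¹' U)
    have hdisj : ∀ z ∈ U ∩ Z, ¬ IsSmoothFibreAt f z := by
      rintro z ⟨hzU, hzZ⟩ hsm
      obtain ⟨v, rfl⟩ := hZr hzZ
      have hpv : p ⤳ v := (i.isEmbedding.isInducing.specializes_iff).1 (hp.symm ▸ hζ.specializes hzZ)
      have hv : v ∈ f'.smoothLocus :=
        Groth.PropsBasic.Loci.mem_smoothLocus_of_fiber (hUV.le hzU) ((hiff v).1 hsm)
      exact hE (hp ▸ (hiff p).2 (isSmoothFibreAt_of_mem_smoothLocus f' p (hpv.mem_open f'.smoothLocus.2 hv)))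
    rw [IsNowhereDense, Set.eq_empty_iff_forall_notMem]
    intro z hz
    obtain ⟨O, hOsub, hO, hzO⟩ := mem_interior.1 hz
    obtain ⟨O', hO', rfl⟩ := isOpen_induced_iff.1 hO
    have hζO : ζ ∈ O' := (hζ.specializes z.2).mem_open hO' hzO
    obtain ⟨w, hwU, hw⟩ := mem_closure_iff.1 (hOsub (show (⟨ζ, hζZ⟩ : Z) ∈ Subtype.val ⁻¹' O' from hζO))
      (Subtype.val ⁻¹' U) (hU.preimage continuous_subtype_val) hζU
    exact hdisj w.1 ⟨hwU, w.2⟩ hw

theorem isConstructible_smoothFibre_spec {R A : CommRingCat.{u}} (φ : R ⟶ A) (hφ : φ.hom.FinitePresentation)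
    [LocallyOfFinitePresentation (Spec.map φ)] :
    IsConstructible {x : ↥(Spec A) | IsSmoothFibreAt (Spec.map φ) x} := by
  obtain ⟨R₀, A₀, φ₀, g, g', hR, hA, hft, hsq⟩ := Groth.FibreDim.exists_model_isPullback φ hφ
  haveI : LocallyOfFiniteType (Spec.map φ₀) :=
    (HasRingHomProperty.Spec_iff (P := @LocallyOfFiniteType)).mpr hft
  haveI : LocallyOfFinitePresentation (Spec.map φ₀) := inferInstance
  have h0 := isConstructible_smoothFibre (Spec.map φ₀)
  convert (Spec.map g').isConstructible_preimage h0 using 1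
  ext x
  exact isSmoothFibreAt_baseChange_iff (Spec.map φ₀) (Spec.map g) (Spec.map φ) (Spec.map g') hsq x

theorem isLocallyConstructible_smoothFibre {X S : Scheme.{u}} (f : X ⟶ S) [LocallyOfFinitePresentation f] :
    IsLocallyConstructible {x : X | IsSmoothFibreAt f x} := by
  intro x
  obtain ⟨U, hU, hxU, -⟩ := exists_isAffineOpen_mem_and_subset (U := (⊤ : S.Opens)) (x := f.base x) trivial
  obtain ⟨W, hW, hxW, hWU⟩ := exists_isAffineOpen_mem_and_subset (U := f ⁻¹ᵁ U) (x := x) hxU
  refine ⟨W, W.2.mem_nhds hxW, W.2, ?_⟩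
  have hfp := f.finitePresentation_appLE hU hW hWU
  haveI : LocallyOfFinitePresentation (Spec.map (f.appLE U W hWU)) :=
    (HasRingHomProperty.Spec_iff (P := @LocallyOfFinitePresentation)).mpr hfp
  have h1 := isConstructible_smoothFibre_spec (f.appLE U W hWU) hfp
  convert! (IsAffineOpen.isoSpec hW).hom.isConstructible_preimage h1
  ext z
  have hz : hW.fromSpec.base ((IsAffineOpen.isoSpec hW).hom z) = z.1 := by
    rw [← Scheme.Hom.comp_apply, hW.isoSpec_hom_fromSpec]
    rfl
  have hsq : IsPullback (𝟙 _) (Spec.map (f.appLE U W hWU)) (hW.fromSpec ≫ f) hU.fromSpec := by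
    rw [← hU.SpecMap_appLE_fromSpec f hW hWU]
    exact ⟨⟨by simp⟩, ⟨PullbackCone.IsLimit.mk _ (fun s => s.fst) (fun s => Category.comp_id _)
      (fun s => (cancel_mono hU.fromSpec).1 (by rw [Category.assoc, s.condition]))
      (fun s m h₁ _ => (Category.comp_id m).symm.trans h₁)⟩⟩
  show IsSmoothFibreAt f z.1 ↔ _
  rw [← hz, ← isSmoothFibreAt_openImmersion_comp]
  exact (isSmoothFibreAt_baseChange_iff (hW.fromSpec ≫ f) hU.fromSpec _ _ hsq _).symm

end Groth.CMMor
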