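import Groth.Agent.CMMor.BaseChange
import Groth.Agent.SpectralTopology.Constructible
import Groth.Agent.EGA41Two.LocalCons
import Groth.Agent.FibreDim.Retrocompact
import Groth.Agent.PropsBasic2.Reduced

/-!
# Constructibility of the Cohen–Macaulay locus of the fibres (EGA IV 9.9)
-/

set_option linter.style.haveILetI false

universe u

open CategoryTheory CategoryTheory.Limits AlgebraicGeometry IsLocalRing Topology

namespace Groth.CMMor

theorem isOpen_flatAt {X S : Scheme.{u}} (f : X ⟶ S) [LocallyOfFinitePresentation f] :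
    IsOpen {x : X | (f.stalkMap x).hom.Flat} := by
  haveI : LocallyOfFinitePresentation (f ≫ 𝟙 S) := by rw [Category.comp_id]; infer_instance
  convert Groth.FlatMor2.FibCrit.isOpen_structureSheaf f (𝟙 S) using 1
  ext x
  exact ⟨fun h => ⟨Flat.stalkMap _ _, h⟩, fun h => h.2⟩

theorem isConstructible_cmFibre {X S : Scheme.{u}} (f : X ⟶ S) [IsNoetherian X] [IsLocallyNoetherian S]
    [LocallyOfFiniteType f] :
    IsConstructible {x : X | LocCoh.IsCohenMacaulayLocalRing (CInt.fiberStalk f x)} := by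
  refine Groth.SpectralTopology.isConstructible_of_forall_irreducible fun Z hZ hirr => ?_
  obtain ⟨ζ, hζ⟩ := QuasiSober.sober hirr hZ
  let C : TopologicalSpace.Closeds ↥S := ⟨closure {f.base ζ}, isClosed_closure⟩
  let I := Scheme.IdealSheafData.vanishingIdeal C
  have hrange : Set.range I.subschemeι.base = closure {f.base ζ} := by
    rw [Scheme.IdealSheafData.range_subschemeι]
    exact Scheme.IdealSheafData.coe_support_vanishingIdeal C
  obtain ⟨η, hη⟩ : f.base ζ ∈ Set.range I.subschemeι.base := hrange ▸ subset_closure rfl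
  haveI : IsLocallyNoetherian I.subscheme := LocallyOfFiniteType.isLocallyNoetherian I.subschemeι
  let f' := pullback.snd f I.subschemeι
  let i := pullback.fst f I.subschemeι
  haveI : LocallyOfFiniteType f' := MorphismProperty.pullback_snd _ _ inferInstance
  haveI : LocallyOfFinitePresentation f' := inferInstance
  have hZr : Z ⊆ Set.range i.base := by
    intro z hz
    obtain ⟨t, ht⟩ : f.base z ∈ Set.range I.subschemeι.base :=
      hrange ▸ specializes_iff_mem_closure.1 ((hζ.specializes hz).map f.continuous)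
    obtain ⟨p, hp, -⟩ := Scheme.Pullback.exists_preimage_pullback (f := f) (g := I.subschemeι) z t ht.symm
    exact ⟨p, hp⟩
  obtain ⟨p, hp⟩ := hZr (hζ.def ▸ subset_closure rfl : ζ ∈ Z)
  have hfp : f'.base p = η := by
    refine I.subschemeι.isEmbedding.injective ?_
    rw [hη, ← hp, ← Scheme.Hom.comp_apply, ← pullback.condition, Scheme.Hom.comp_apply]
  -- `f'` is flat at `p`
  have hflat : (f'.stalkMap p).hom.Flat := by
    haveI : AlgebraicGeometry.IsReduced I.subscheme := Groth.PropsBasic2.isReduced_vanishingIdeal_subscheme C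
    have hfield : IsField (I.subscheme.presheaf.stalk (f'.base p)) := by
      rw [hfp]
      refine isField_stalk_of_closure_mem_irreducibleComponents _ _ ⟨isIrreducible_singleton.closure, fun T hT hle t ht => ?_⟩
      rw [← specializes_iff_mem_closure, ← I.subschemeι.isEmbedding.isInducing.specializes_iff, hη,
        specializes_iff_mem_closure]
      exact hrange.le ⟨t, rfl⟩
    letI := (f'.stalkMap p).hom.toAlgebra
    letI := hfield.toField
    show Module.Flat _ _
    infer_instance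
  -- points of the open flat locus
  let V : Set ↥(pullback f I.subschemeι) := {v | (f'.stalkMap v).hom.Flat} ∩ {v | MoreMor.IsCMAt f' v}
  have hV : IsOpen V := (isOpen_flatAt f').inter (isOpen_isCMAt f')
  have hiff : ∀ v, LocCoh.IsCohenMacaulayLocalRing (CInt.fiberStalk f (i.base v)) ↔
      LocCoh.IsCohenMacaulayLocalRing (CInt.fiberStalk f' v) := fun v =>
    (isCM_fiberStalk_baseChange_iff f I.subschemeι f' i (IsPullback.of_hasPullback f I.subschemeι) v).symm
  by_cases hE : LocCoh.IsCohenMacaulayLocalRing (CInt.fiberStalk f ζ)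
  · right
    obtain ⟨U, hU, hUV⟩ := i.isEmbedding.isInducing.isOpen_iff.1 hV
    have hpV : p ∈ V := ⟨hflat, hflat, (hiff p).1 (hp.symm ▸ hE)⟩
    refine ⟨U, hU, ⟨ζ, hp ▸ (hUV.ge hpV : p ∈ i.base ⁻¹' U), hζ.def ▸ subset_closure rfl⟩, ?_⟩
    rintro z ⟨hzU, hzZ⟩
    obtain ⟨v, rfl⟩ := hZr hzZ
    exact (hiff v).2 (hUV.le hzU).2.2
  · left
    obtain ⟨U, hU, hUV⟩ := i.isEmbedding.isInducing.isOpen_iff.1 (isOpen_flatAt f')
    have hζU : ζ ∈ U := hp ▸ (hUV.ge hflat : p ∈ i.base ⁻¹' U)
    have hdisj : ∀ z ∈ U ∩ Z, ¬ LocCoh.IsCohenMacaulayLocalRing (CInt.fiberStalk f z) := by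
      rintro z ⟨hzU, hzZ⟩ hcm
      obtain ⟨v, rfl⟩ := hZr hzZ
      have hpv : p ⤳ v := (i.isEmbedding.isInducing.specializes_iff).1 (hp.symm ▸ hζ.specializes hzZ)
      have hv : MoreMor.IsCMAt f' v := ⟨hUV.le hzU, (hiff v).1 hcm⟩
      exact hE (hp ▸ (hiff p).2 (hpv.mem_open (isOpen_isCMAt f') hv).2)
    rw [IsNowhereDense, Set.eq_empty_iff_forall_notMem]
    intro z hz
    obtain ⟨O, hOsub, hO, hzO⟩ := mem_interior.1 hz
    obtain ⟨O', hO', rfl⟩ := isOpen_induced_iff.1 hO
    have hζO : ζ ∈ O' := (hζ.specializes z.2).mem_open hO' hzO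
    have hζZ : ζ ∈ Z := hζ.def ▸ subset_closure rfl
    obtain ⟨w, hwU, hw⟩ := mem_closure_iff.1 (hOsub (show (⟨ζ, hζZ⟩ : Z) ∈ Subtype.val ⁻¹' O' from hζO))
      (Subtype.val ⁻¹' U) (hU.preimage continuous_subtype_val) hζU
    exact hdisj w.1 ⟨hwU, w.2⟩ hw

theorem isCM_fiberStalk_openImmersion_comp {V X S : Scheme.{u}} (j : V ⟶ X) [IsOpenImmersion j] (f : X ⟶ S)
    (v : V) : LocCoh.IsCohenMacaulayLocalRing (CInt.fiberStalk (j ≫ f) v) ↔
      LocCoh.IsCohenMacaulayLocalRing (CInt.fiberStalk f (j.base v)) := by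
  have hbij : Function.Bijective (j.stalkMap v).hom := ConcreteCategory.bijective_of_isIso _
  let e : X.presheaf.stalk (j.base v) ≃+* V.presheaf.stalk v := RingEquiv.ofBijective _ hbij
  have hst : ((j ≫ f).stalkMap v).hom = e.toRingHom.comp (f.stalkMap (j.base v)).hom := by
    rw [Scheme.Hom.stalkMap_comp]
    rfl
  obtain ⟨e₁⟩ := Groth.Ega4b.nonempty_fiberStalk_equiv (j ≫ f) v
  obtain ⟨e₂⟩ := Groth.Ega4b.nonempty_fiberStalk_equiv f (j.base v)
  let e₃ := Ideal.quotientEquiv ((maximalIdeal (S.presheaf.stalk (f (j.base v)))).map (f.stalkMap (j.base v)).hom)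
    ((maximalIdeal (S.presheaf.stalk ((j ≫ f) v))).map ((j ≫ f).stalkMap v).hom) e (by
      rw [hst]; exact (Ideal.map_map _ _).symm)
  exact ⟨fun h => Groth.Ega4b.isCohenMacaulayLocalRing_of_ringEquiv (e₁.symm.trans (e₃.symm.trans e₂)) h,
    fun h => Groth.Ega4b.isCohenMacaulayLocalRing_of_ringEquiv (e₂.symm.trans (e₃.trans e₁)) h⟩

theorem isConstructible_cmFibre_spec {R A : CommRingCat.{u}} (φ : R ⟶ A) (hφ : φ.hom.FinitePresentation) :
    IsConstructible {x : ↥(Spec A) | LocCoh.IsCohenMacaulayLocalRing (CInt.fiberStalk (Spec.map φ) x)} := by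
  obtain ⟨R₀, A₀, φ₀, g, g', hR, hA, hft, hsq⟩ := Groth.FibreDim.exists_model_isPullback φ hφ
  haveI : LocallyOfFiniteType (Spec.map φ₀) :=
    (HasRingHomProperty.Spec_iff (P := @LocallyOfFiniteType)).mpr hft
  have h0 := isConstructible_cmFibre (Spec.map φ₀)
  convert (Spec.map g').isConstructible_preimage h0 using 1
  ext x
  exact isCM_fiberStalk_baseChange_iff (Spec.map φ₀) (Spec.map g) (Spec.map φ) (Spec.map g') hsq x

theorem isLocallyConstructible_cmFibre {X S : Scheme.{u}} (f : X ⟶ S) [LocallyOfFinitePresentation f] :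
    IsLocallyConstructible {x : X | LocCoh.IsCohenMacaulayLocalRing (CInt.fiberStalk f x)} := by
  intro x
  obtain ⟨U, hU, hxU, -⟩ := exists_isAffineOpen_mem_and_subset (U := (⊤ : S.Opens)) (x := f.base x) trivial
  obtain ⟨W, hW, hxW, hWU⟩ := exists_isAffineOpen_mem_and_subset (U := f ⁻¹ᵁ U) (x := x) hxU
  refine ⟨W, W.2.mem_nhds hxW, W.2, ?_⟩
  have h1 := isConstructible_cmFibre_spec (f.appLE U W hWU)
    (f.finitePresentation_appLE hU hW hWU)
  convert! (IsAffineOpen.isoSpec hW).hom.isConstructible_preimage h1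
  ext z
  have hz : hW.fromSpec.base ((IsAffineOpen.isoSpec hW).hom z) = z.1 := by
    rw [← Scheme.Hom.comp_apply, hW.isoSpec_hom_fromSpec]
    rfl
  have hsq : IsPullback (𝟙 _) (Spec.map (f.appLE U W hWU)) (hW.fromSpec ≫ f) hU.fromSpec := by
    rw [← hU.SpecMap_appLE_fromSpec f hW hWU]
    exact ⟨⟨by simp⟩, ⟨PullbackCone.IsLimit.mk _ (fun s => s.fst) (fun s => Category.comp_id _)
      (fun s => (cancel_mono hU.fromSpec).1 (by rw [Category.assoc, s.condition]))
      (fun s m h₁ _ => (Category.comp_id m).symm.trans h₁)⟩⟩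
  show LocCoh.IsCohenMacaulayLocalRing (CInt.fiberStalk f z.1) ↔ _
  rw [← hz, ← isCM_fiberStalk_openImmersion_comp]
  exact (isCM_fiberStalk_baseChange_iff (hW.fromSpec ≫ f) hU.fromSpec _ _ hsq _).symm

end Groth.CMMor
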