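import Groth.Agent.CMMor.FieldExt
import Groth.Agent.Misc13.FlatBC
import Groth.Agent.Flatmor4.CMComp

/-!
# Cohen–Macaulay points and base change of finite type, locally Noetherian fibres
-/

set_option linter.style.haveILetI false

universe u

open CategoryTheory CategoryTheory.Limits AlgebraicGeometry IsLocalRing

namespace Groth.CMMor

variable {X Y X' Y' : Scheme.{u}} (f : X ⟶ Y) (g : Y' ⟶ Y) [LocallyOfFiniteType g] (f' : X' ⟶ Y')
  (g' : X' ⟶ X) (hc : IsPullback g' f' f g) (hN : ∀ y : Y, IsLocallyNoetherian (f.fiber y))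

include hc hN in
theorem isCM_fiberStalk_iff_of_locallyOfFiniteType (x' : X') :
    LocCoh.IsCohenMacaulayLocalRing (CInt.fiberStalk f' x') ↔
      LocCoh.IsCohenMacaulayLocalRing (CInt.fiberStalk f (g'.base x')) := by
  obtain ⟨y', z', rfl⟩ : ∃ (y' : Y') (z' : f'.fiber y'), (f'.fiberι y').base z' = x' :=
    ⟨_, _, f'.fiberι_asFiber x'⟩
  obtain ⟨q, hq1, hsq⟩ := exists_fiber_map f g f' g' hc y'
  rw [← Scheme.Hom.comp_apply, ← hq1, Scheme.Hom.comp_apply, isCM_fiberStalk_iff, isCM_fiberStalk_iff]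
  haveI := hN (g.base y')
  exact isCM_stalk_iff_of_essFiniteType (k := Y.residueField (g.base y')) (K := Y'.residueField y')
    (g.residueFieldMap y') (Groth.FlatMor2.essFiniteType_residueFieldMap g y') _ _ q hsq z'

include hc hN in
theorem isCMAt_baseChange_of_locallyOfFiniteType (x' : X') (h : MoreMor.IsCMAt f (g'.base x')) :
    MoreMor.IsCMAt f' x' :=
  ⟨Groth.Misc13.FlatBC.flat_stalkMap_baseChange hc.flip x' h.1,
    (isCM_fiberStalk_iff_of_locallyOfFiniteType f g f' g' hc hN x').2 h.2⟩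

include hc hN in
theorem isCMAt_of_baseChange_of_flatAt (x' : X') (hflat : (f.stalkMap (g'.base x')).hom.Flat)
    (h : MoreMor.IsCMAt f' x') : MoreMor.IsCMAt f (g'.base x') :=
  ⟨hflat, (isCM_fiberStalk_iff_of_locallyOfFiniteType f g f' g' hc hN x').1 h.2⟩

omit [LocallyOfFiniteType g] in
include hc in
/-- Flatness descends along a base change which is flat at the point. -/
theorem flat_stalkMap_of_baseChange (x' : X') (hg : (g.stalkMap (f'.base x')).hom.Flat)
    (h : (f'.stalkMap x').hom.Flat) : (f.stalkMap (g'.base x')).hom.Flat := by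
  have hg' : (g'.stalkMap x').hom.Flat := Groth.Misc13.FlatBC.flat_stalkMap_baseChange hc x' hg
  have hw : ((f' ≫ g).stalkMap x').hom.Flat := by
    rw [Scheme.Hom.stalkMap_comp]
    exact RingHom.Flat.comp hg h
  have hw' : ((g' ≫ f).stalkMap x').hom.Flat := by
    rw [hc.w]
    exact hw
  letI := (g'.stalkMap x').hom.toAlgebra
  letI : Algebra (Y.presheaf.stalk ((g' ≫ f).base x')) (X.presheaf.stalk (g'.base x')) :=
    (f.stalkMap (g'.base x')).hom.toAlgebra
  letI := ((g' ≫ f).stalkMap x').hom.toAlgebra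
  haveI : IsScalarTower (Y.presheaf.stalk ((g' ≫ f).base x')) (X.presheaf.stalk (g'.base x'))
      (X'.presheaf.stalk x') := IsScalarTower.of_algebraMap_eq' (by
    show ((g' ≫ f).stalkMap x').hom = _
    rw [Scheme.Hom.stalkMap_comp]
    rfl)
  haveI : Module.Flat (X.presheaf.stalk (g'.base x')) (X'.presheaf.stalk x') := hg'
  haveI : IsLocalHom (algebraMap (X.presheaf.stalk (g'.base x')) (X'.presheaf.stalk x')) :=
    inferInstanceAs (IsLocalHom (g'.stalkMap x').hom)
  haveI : Module.Flat (Y.presheaf.stalk ((g' ≫ f).base x')) (X'.presheaf.stalk x') := hw'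
  exact Groth.Flatmor4.flat_of_flat_comp (Y.presheaf.stalk ((g' ≫ f).base x'))
    (X.presheaf.stalk (g'.base x')) (X'.presheaf.stalk x')

include hc hN in
theorem isCMAt_of_baseChange_of_base_flatAt (x' : X') (hg : (g.stalkMap (f'.base x')).hom.Flat)
    (h : MoreMor.IsCMAt f' x') : MoreMor.IsCMAt f (g'.base x') :=
  isCMAt_of_baseChange_of_flatAt f g f' g' hc hN x' (flat_stalkMap_of_baseChange f g f' g' hc x' hg h.1) h

end Groth.CMMor
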