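import Groth.Agent.CMMor.Criterion

/-!
# The fibre local ring read in any description of the fibre
-/

set_option linter.style.haveILetI false

universe u

open CategoryTheory CategoryTheory.Limits AlgebraicGeometry IsLocalRing

namespace Groth.CMMor

theorem isCM_fiberStalk_iff {X S : Scheme.{u}} (f : X ⟶ S) (s : S) (z : f.fiber s) :
    LocCoh.IsCohenMacaulayLocalRing (CInt.fiberStalk f ((f.fiberι s).base z)) ↔
      LocCoh.IsCohenMacaulayLocalRing ((f.fiber s).presheaf.stalk z) := by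
  obtain ⟨e₁⟩ := Groth.Ega4b.nonempty_fiber_stalk_equiv f s z _ rfl
  obtain ⟨e₂⟩ := Groth.Ega4b.nonempty_fiberStalk_equiv f ((f.fiberι s).base z)
  exact ⟨fun h => Groth.Ega4b.isCohenMacaulayLocalRing_of_ringEquiv (e₂.symm.trans e₁) h,
    fun h => Groth.Ega4b.isCohenMacaulayLocalRing_of_ringEquiv (e₁.symm.trans e₂) h⟩

theorem isCMAt_iff {X S : Scheme.{u}} (f : X ⟶ S) [Flat f] (x : X) :
    MoreMor.IsCMAt f x ↔ LocCoh.IsCohenMacaulayLocalRing (CInt.fiberStalk f x) :=
  ⟨fun h => h.2, fun h => ⟨Flat.stalkMap f x, h⟩⟩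

/-- Maximal points of fibres are Cohen–Macaulay in their fibres. -/
theorem isCM_stalk_of_maximal {X S : Scheme.{u}} (f : X ⟶ S) [LocallyOfFiniteType f] (s : S) (z : f.fiber s)
    (hz : ∀ w, w ⤳ z → w = z) : LocCoh.IsCohenMacaulayLocalRing ((f.fiber s).presheaf.stalk z) := by
  haveI : LocallyOfFiniteType (f.fiberToSpecResidueField s) :=
    inferInstanceAs (LocallyOfFiniteType (pullback.snd f (S.fromSpecResidueField s)))
  haveI : IsLocallyNoetherian (f.fiber s) :=
    LocallyOfFiniteType.isLocallyNoetherian (f.fiberToSpecResidueField s)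
  exact Groth.Ega4b.isCM_local_of_dim_eq_zero _ (Groth.Ega4b.ringKrullDim_stalk_eq_zero_of_maximal hz)

end Groth.CMMor
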