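import Groth.Agent.CMMor.FibreCM
import Groth.Agent.FibreDim.BaseChange

/-!
# Cohen–Macaulay points and base change
-/

set_option linter.style.haveILetI false

universe u

open CategoryTheory CategoryTheory.Limits AlgebraicGeometry IsLocalRing

namespace Groth.CMMor

variable {X Y X' Y' : Scheme.{u}} (f : X ⟶ Y) (g : Y' ⟶ Y) (f' : X' ⟶ Y') (g' : X' ⟶ X)
  (hc : IsPullback g' f' f g)

include hc in
/-- The map of fibres of a base change, cartesian over the map of residue fields. -/
theorem exists_fiber_map (y' : Y') :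
    ∃ q : f'.fiber y' ⟶ f.fiber (g.base y'), q ≫ f.fiberι (g.base y') = f'.fiberι y' ≫ g' ∧
      IsPullback q (f'.fiberToSpecResidueField y') (f.fiberToSpecResidueField (g.base y'))
        (Spec.map (g.residueFieldMap y')) := by
  let σ := g.residueFieldMap y'
  let q : f'.fiber y' ⟶ f.fiber (g.base y') := pullback.lift (f'.fiberι y' ≫ g')
    (f'.fiberToSpecResidueField y' ≫ Spec.map σ) (by
      rw [Category.assoc, hc.w, reassoc_of% (Groth.FibreDim.fiberι_comp f' y'), Category.assoc,
        Scheme.Hom.SpecMap_residueFieldMap_fromSpecResidueField])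
  have hq1 : q ≫ f.fiberι (g.base y') = f'.fiberι y' ≫ g' := pullback.lift_fst ..
  have hq2 : q ≫ f.fiberToSpecResidueField (g.base y') = f'.fiberToSpecResidueField y' ≫ Spec.map σ :=
    pullback.lift_snd ..
  have hbig : IsPullback (f'.fiberι y' ≫ g') (f'.fiberToSpecResidueField y') f
      (Y'.fromSpecResidueField y' ≫ g) :=
    IsPullback.paste_horiz (IsPullback.of_hasPullback f' (Y'.fromSpecResidueField y')) hc
  rw [← Scheme.Hom.SpecMap_residueFieldMap_fromSpecResidueField] at hbig
  rw [← hq1] at hbig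
  exact ⟨q, hq1, hbig.of_right hq2 (IsPullback.of_hasPullback f (Y.fromSpecResidueField (g.base y')))⟩

theorem flat_SpecMap_field {k K : Type u} [Field k] [Field K] (φ : CommRingCat.of k ⟶ CommRingCat.of K) :
    Flat (Spec.map φ) := by
  refine (HasRingHomProperty.Spec_iff (P := @Flat)).mpr ?_
  letI := φ.hom.toAlgebra
  exact RingHom.flat_algebraMap_iff.mpr inferInstance

/-- Over a field the fibre local ring is the local ring. -/
theorem isCM_fiberStalk_iff_fieldBase {Z : Scheme.{u}} {k : Type u} [Field k]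
    (p : Z ⟶ Spec (CommRingCat.of k)) (z : Z) :
    LocCoh.IsCohenMacaulayLocalRing (CInt.fiberStalk p z) ↔
      LocCoh.IsCohenMacaulayLocalRing (Z.presheaf.stalk z) := by
  obtain ⟨e⟩ := Groth.Ega4b.nonempty_fiberStalk_equiv p z
  have hbot : maximalIdeal ((Spec (CommRingCat.of k)).presheaf.stalk (p.base z)) = ⊥ := by
    haveI : Subsingleton ↥(Spec (CommRingCat.of k)) := inferInstanceAs (Subsingleton (PrimeSpectrum k))
    refine (IsLocalRing.isField_iff_maximalIdeal_eq).1 ?_
    refine isField_stalk_of_closure_mem_irreducibleComponents _ _ ?_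
    haveI : IrreducibleSpace ↥(Spec (CommRingCat.of k)) := inferInstanceAs (IrreducibleSpace (PrimeSpectrum k))
    rw [irreducibleComponents_eq_singleton, Set.mem_singleton_iff]
    exact Set.eq_univ_of_forall fun y => subset_closure (Subsingleton.elim y _)
  let e' := ((Ideal.quotEquivOfEq (by rw [hbot, Ideal.map_bot] :
    (maximalIdeal ((Spec (CommRingCat.of k)).presheaf.stalk (p.base z))).map (p.stalkMap z).hom = ⊥)).trans
      (RingEquiv.quotientBot _)).symm.trans e
  exact ⟨fun h => Groth.Ega4b.isCohenMacaulayLocalRing_of_ringEquiv e'.symm h,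
    fun h => Groth.Ega4b.isCohenMacaulayLocalRing_of_ringEquiv e' h⟩

include hc in
/-- Cohen–Macaulayness of fibres descends along any base change. -/
theorem isCM_fiberStalk_of_baseChange [LocallyOfFiniteType f] (x' : X')
    (h : LocCoh.IsCohenMacaulayLocalRing (CInt.fiberStalk f' x')) :
    LocCoh.IsCohenMacaulayLocalRing (CInt.fiberStalk f (g'.base x')) := by
  obtain ⟨y', z', rfl⟩ : ∃ (y' : Y') (z' : f'.fiber y'), (f'.fiberι y').base z' = x' :=
    ⟨_, _, f'.fiberι_asFiber x'⟩
  rw [isCM_fiberStalk_iff] at h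
  obtain ⟨q, hq1, hsq⟩ := exists_fiber_map f g f' g' hc y'
  rw [← Scheme.Hom.comp_apply, ← hq1, Scheme.Hom.comp_apply, isCM_fiberStalk_iff]
  haveI : LocallyOfFiniteType f' := MorphismProperty.of_isPullback hc inferInstance
  haveI : LocallyOfFiniteType (f.fiberToSpecResidueField (g.base y')) :=
    inferInstanceAs (LocallyOfFiniteType (pullback.snd f (Y.fromSpecResidueField (g.base y'))))
  haveI : LocallyOfFiniteType (f'.fiberToSpecResidueField y') :=
    inferInstanceAs (LocallyOfFiniteType (pullback.snd f' (Y'.fromSpecResidueField y')))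
  haveI : IsLocallyNoetherian (f.fiber (g.base y')) :=
    LocallyOfFiniteType.isLocallyNoetherian (f.fiberToSpecResidueField (g.base y'))
  haveI : IsLocallyNoetherian (f'.fiber y') :=
    LocallyOfFiniteType.isLocallyNoetherian (f'.fiberToSpecResidueField y')
  haveI : Flat q := MorphismProperty.of_isPullback (P := @Flat) hsq.flip
    (flat_SpecMap_field (k := Y.residueField (g.base y')) (K := Y'.residueField y') (g.residueFieldMap y'))
  letI := (q.stalkMap z').hom.toAlgebra
  haveI : IsLocalHom (algebraMap ((f.fiber (g.base y')).presheaf.stalk (q.base z'))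
      ((f'.fiber y').presheaf.stalk z')) := inferInstanceAs (IsLocalHom (q.stalkMap z').hom)
  haveI : Module.Flat ((f.fiber (g.base y')).presheaf.stalk (q.base z'))
      ((f'.fiber y').presheaf.stalk z') := Flat.stalkMap q z'
  exact isCM_of_flat_local _ _ h

include hc in
/-- Cohen–Macaulay points stay Cohen–Macaulay after any base change. -/
theorem isCMAt_baseChange [LocallyOfFinitePresentation f] (x' : X')
    (h : MoreMor.IsCMAt f (g'.base x')) : MoreMor.IsCMAt f' x' := by
  haveI : LocallyOfFinitePresentation f' := MorphismProperty.of_isPullback hc inferInstance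
  obtain ⟨d, hd⟩ := exists_fibreDimAt_eq_nat f (g'.base x')
  obtain ⟨U, k, hxU, hk, hqf, -, hiff⟩ := exists_cm_chart f (g'.base x') d hd.le
  haveI : LocallyOfFinitePresentation (k ≫ (𝔸(ULift.{u} (Fin d); Y) ↘ Y)) := hk ▸ inferInstance
  let O : (U : Scheme.{u}).Opens := ⟨_, isOpen_flat_stalkMap k⟩
  let j : (O : Scheme.{u}) ⟶ X := O.ι ≫ U.ι
  haveI : Flat (O.ι ≫ k) := Flat.of_stalkMap _ fun o => by
    rw [Scheme.Hom.stalkMap_comp]
    exact RingHom.Flat.comp o.2
      (RingHom.Flat.of_bijective (ConcreteCategory.bijective_of_isIso (O.ι.stalkMap o)))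
  have hO : (O.ι ≫ k) ≫ (𝔸(ULift.{u} (Fin d); Y) ↘ Y) = j ≫ f := by
    rw [Category.assoc, hk, Category.assoc]
  -- the restriction of the base change
  have hres : IsPullback (pullback.snd g' j) (pullback.fst g' j ≫ f') (j ≫ f) g := by
    exact (IsPullback.of_hasPullback g' j).flip.paste_vert hc
  have htop : IsPullback (AffineSpace.map (ULift.{u} (Fin d)) g) (𝔸(ULift.{u} (Fin d); Y') ↘ Y')
      (𝔸(ULift.{u} (Fin d); Y) ↘ Y) g := AffineSpace.isPullback_map g
  let k' : pullback g' j ⟶ 𝔸(ULift.{u} (Fin d); Y') :=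
    htop.lift (pullback.snd g' j ≫ O.ι ≫ k) (pullback.fst g' j ≫ f') (by
      rw [Category.assoc, hO, hres.w])
  have hk'2 : k' ≫ (𝔸(ULift.{u} (Fin d); Y') ↘ Y') = pullback.fst g' j ≫ f' := htop.lift_snd _ _ _
  have hsq : IsPullback (pullback.snd g' j) k' (O.ι ≫ k) (AffineSpace.map (ULift.{u} (Fin d)) g) :=
    IsPullback.of_bot (by rw [hk'2, hO]; exact hres) (htop.lift_fst _ _ _).symm htop
  haveI : Flat k' := MorphismProperty.of_isPullback hsq inferInstance
  haveI : LocallyQuasiFinite k' := MorphismProperty.of_isPullback hsq inferInstance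
  haveI : LocallyOfFinitePresentation (k' ≫ (𝔸(ULift.{u} (Fin d); Y') ↘ Y')) := hk'2 ▸ inferInstance
  obtain ⟨v, hv, -⟩ := Scheme.Pullback.exists_preimage_pullback (f := g') (g := j) x'
    ⟨⟨_, hxU⟩, (hiff ⟨_, hxU⟩).2 ⟨h, hd⟩⟩ rfl
  have := ((flat_stalkMap_iff_isCMAt k' v).1 (Flat.stalkMap k' v)).1
  rw [hk'2, isCMAt_openImmersion_comp] at this
  rwa [hv] at this

include hc in
theorem isCM_fiberStalk_baseChange_iff [LocallyOfFiniteType f] (x' : X') :
    LocCoh.IsCohenMacaulayLocalRing (CInt.fiberStalk f' x') ↔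
      LocCoh.IsCohenMacaulayLocalRing (CInt.fiberStalk f (g'.base x')) := by
  refine ⟨isCM_fiberStalk_of_baseChange f g f' g' hc x', fun h => ?_⟩
  obtain ⟨y', z', rfl⟩ : ∃ (y' : Y') (z' : f'.fiber y'), (f'.fiberι y').base z' = x' :=
    ⟨_, _, f'.fiberι_asFiber x'⟩
  obtain ⟨q, hq1, hsq⟩ := exists_fiber_map f g f' g' hc y'
  rw [← Scheme.Hom.comp_apply, ← hq1, Scheme.Hom.comp_apply, isCM_fiberStalk_iff] at h
  rw [isCM_fiberStalk_iff]
  let p := f.fiberToSpecResidueField (g.base y')
  let p' := f'.fiberToSpecResidueField y'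
  haveI : LocallyOfFiniteType p :=
    inferInstanceAs (LocallyOfFiniteType (pullback.snd f (Y.fromSpecResidueField (g.base y'))))
  haveI : LocallyOfFinitePresentation p := inferInstance
  haveI : Flat p := inferInstance
  have hp : MoreMor.IsCMAt p (q.base z') := by
    rw [isCMAt_iff]
    have e := isCM_fiberStalk_iff_fieldBase p (q.base z')
    exact e.2 h
  have hp' := isCMAt_baseChange p (Spec.map (g.residueFieldMap y')) p' q hsq z' hp
  exact (isCM_fiberStalk_iff_fieldBase p' z').1 hp'.2

end Groth.CMMor
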