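import Groth.Agent.FibreDim.Smooth
import Groth.Agent.FibreDim.Composition
import Groth.Agent.Calg1.MiracleFlatness
import Groth.Agent.Calg4.RegularAscent
import Groth.Agent.Ega4Algebra2.SchemeFibre
import Groth.Agent.Ega4Algebra2.CMFibres
import Groth.Agent.Flatmor4.FlatDedekind
import Groth.Agent.VarietyBC.Dim

/-!
# Quasi-finite morphisms to regular schemes over a field: flat iff Cohen–Macaulay
-/

set_option linter.style.haveILetI false

universe u

open CategoryTheory CategoryTheory.Limits AlgebraicGeometry IsLocalRing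

namespace Groth.CMMor

/-- Cohen–Macaulay descends along flat local homomorphisms. -/
theorem isCM_of_flat_local (A B : Type u) [CommRing A] [IsLocalRing A] [IsNoetherianRing A]
    [CommRing B] [IsLocalRing B] [IsNoetherianRing B] [Algebra A B] [IsLocalHom (algebraMap A B)]
    [Module.Flat A B] (hB : LocCoh.IsCohenMacaulayLocalRing B) :
    LocCoh.IsCohenMacaulayLocalRing A := by
  let F := B ⧸ (maximalIdeal A).map (algebraMap A B)
  have hle : (maximalIdeal A).map (algebraMap A B) ≤ maximalIdeal B :=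
    ((local_hom_TFAE (algebraMap A B)).out 0 2 rfl rfl).mp inferInstance
  have : Nontrivial F := Ideal.Quotient.nontrivial_iff.mpr
    (ne_top_of_le_ne_top (maximalIdeal.isMaximal B).ne_top hle)
  have : IsLocalRing F := IsLocalRing.of_surjective' _ Ideal.Quotient.mk_surjective
  rw [Groth.Calg4.isCohenMacaulayLocalRing_iff_dim_eq] at hB ⊢
  refine le_antisymm ?_ (Groth.Calg4.depth_le_ringKrullDim A)
  have h1 := Groth.Calg4.ringKrullDim_eq_add_of_flat A B
  rw [hB, Groth.Ega4b.depth_eq_add_of_flat A B, WithBot.coe_add] at h1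
  have h2 := Groth.Calg4.depth_le_ringKrullDim F
  have h3 : ringKrullDim A + ((LocCoh.depth F F : ℕ∞) : WithBot ℕ∞) ≤
      ((LocCoh.depth A A : ℕ∞) : WithBot ℕ∞) + ((LocCoh.depth F F : ℕ∞) : WithBot ℕ∞) :=
    (add_le_add le_rfl h2).trans h1.ge
  haveI := IsLocalRing.toNontrivial (R := A)
  obtain ⟨a, ha⟩ := WithBot.ne_bot_iff_exists.1 (ringKrullDim_ne_bot (R := A))
  obtain ⟨n, hn⟩ : ∃ n : ℕ, LocCoh.depth F F = n := by
    refine ENat.ne_top_iff_exists.1 ?_ |>.imp fun n hn => hn.symm
    intro htop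
    rw [htop] at h2
    exact ringKrullDim_ne_top (R := F) (top_le_iff.1 h2)
  rw [hn, ← ha, ← WithBot.coe_add, ← WithBot.coe_add, WithBot.coe_le_coe] at h3
  rw [← ha, WithBot.coe_le_coe]
  exact (ENat.add_le_add_iff_right (ENat.coe_ne_top n)).1 h3

variable {k : Type u} [Field k] {Z W : Scheme.{u}}

theorem ringKrullDim_fiber_stalk_eq_zero {X Y : Scheme.{u}} (h : X ⟶ Y) [LocallyQuasiFinite h]
    (y : Y) (z : h.fiber y) : ringKrullDim ((h.fiber y).presheaf.stalk z) = 0 :=
  le_antisymm ((Groth.Flatmor4.ringKrullDim_stalk_le z).trans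
    (topologicalKrullDim_zero_of_discreteTopology _)) ringKrullDim_nonneg_of_nontrivial

variable (fA : Z ⟶ Spec (CommRingCat.of k)) (fB : W ⟶ Spec (CommRingCat.of k))
  [LocallyOfFiniteType fA] [LocallyOfFiniteType fB] (h : Z ⟶ W) [LocallyQuasiFinite h]

/-- Over a field, a quasi-finite morphism to a regular scheme of dimension `d` is flat at exactly the
Cohen–Macaulay points of local dimension `d`. -/
theorem flat_stalkMap_iff (hh : h ≫ fB = fA) (z : Z) [IsRegularLocalRing (W.presheaf.stalk (h.base z))] (d : ℕ)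
    (hd : FlatMor.localDim W (h.base z) = d) :
    (h.stalkMap z).hom.Flat ↔
      LocCoh.IsCohenMacaulayLocalRing (Z.presheaf.stalk z) ∧ FlatMor.localDim Z z = d := by
  haveI : LocallyOfFiniteType (h ≫ fB) := hh ▸ inferInstance
  haveI : LocallyOfFiniteType h := locallyOfFiniteType_of_comp h fB
  haveI : IsLocallyNoetherian Z := LocallyOfFiniteType.isLocallyNoetherian fA
  haveI : IsLocallyNoetherian W := LocallyOfFiniteType.isLocallyNoetherian fB
  letI := (h.stalkMap z).hom.toAlgebra
  haveI : IsLocalHom (algebraMap (W.presheaf.stalk (h.base z)) (Z.presheaf.stalk z)) :=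
    inferInstanceAs (IsLocalHom (h.stalkMap z).hom)
  have h0 := ringKrullDim_fiber_stalk_eq_zero h _ (h.asFiber z)
  obtain ⟨e⟩ := Groth.Ega4b.nonempty_fiberStalk_equiv h z
  have h0' : ringKrullDim (Z.presheaf.stalk z ⧸
      (maximalIdeal (W.presheaf.stalk (h.base z))).map (h.stalkMap z).hom) = 0 :=
    (ringKrullDim_eq_of_ringEquiv e).trans h0
  constructor
  · intro hflat
    haveI : Module.Flat (W.presheaf.stalk (h.base z)) (Z.presheaf.stalk z) := hflat
    refine ⟨?_, ?_⟩
    · refine Groth.Calg4.isCohenMacaulayLocalRing_of_flat (W.presheaf.stalk (h.base z)) (Z.presheaf.stalk z)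
        (Groth.Calg4.isCohenMacaulayLocalRing_of_isRegularLocalRing _) ?_
      haveI : IsLocalRing (Z.presheaf.stalk z ⧸
          (maximalIdeal (W.presheaf.stalk (h.base z))).map (h.stalkMap z).hom) := e.symm.isLocalRing
      exact Groth.Ega4b.isCM_local_of_dim_eq_zero _ h0'
    · rw [(Groth.FibreDim.localDim_add fA fB h hh z).2 (Groth.FibreDim.generalizing_of_flat_stalkMap h z hflat),
        Groth.FibreDim.fibreDimAt_eq_zero_of_locallyQuasiFinite, zero_add, hd]
  · rintro ⟨hCM, hdim⟩
    haveI := hCM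
    letI : Z.Over (Spec (CommRingCat.of k)) := ⟨fA⟩
    haveI : LocallyOfFiniteType (Z ↘ Spec (CommRingCat.of k)) := ‹LocallyOfFiniteType fA›
    letI : W.Over (Spec (CommRingCat.of k)) := ⟨fB⟩
    haveI : LocallyOfFiniteType (W ↘ Spec (CommRingCat.of k)) := ‹LocallyOfFiniteType fB›
    have hz : Order.height z = Order.height (h.base z) := by
      have h1 := Groth.Variety2.Dim.height_fiber_add fA fB h hh (h.base z) (h.asFiber z)
      rw [h.fiberι_asFiber] at h1
      rw [← h1, Order.height_eq_zero.2 ?_, zero_add]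
      intro y hy
      have h2 : h.asFiber z ⤳ y := Scheme.le_iff_specializes.1 hy
      exact le_of_eq (Set.mem_singleton_iff.1 (h2.mem_closed (isClosed_discrete _) rfl)).symm
    rw [Groth.VarietyBC.localDim_eq_height_add k, hz, ← hd, Groth.VarietyBC.localDim_eq_height_add k] at hdim
    have hzd : ringKrullDim (Z.presheaf.stalk z) = ringKrullDim (W.presheaf.stalk (h.base z)) := by
      obtain ⟨n, hn⟩ := Groth.Variety2.Dim.exists_height_eq fB (h.base z)
      rw [hn] at hdim
      obtain ⟨a, ha⟩ := WithBot.ne_bot_iff_exists.1 (ringKrullDim_ne_bot (R := Z.presheaf.stalk z))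
      obtain ⟨b, hb⟩ := WithBot.ne_bot_iff_exists.1 (ringKrullDim_ne_bot (R := W.presheaf.stalk (h.base z)))
      rw [← ha, ← hb] at hdim ⊢
      rw [← WithBot.coe_add, ← WithBot.coe_add, WithBot.coe_inj] at hdim
      rw [WithBot.coe_inj]
      exact WithTop.add_left_cancel (ENat.coe_ne_top n) hdim
    refine Groth.Calg1.flat_of_isRegularLocalRing_of_isCohenMacaulay _ _ ?_
    rw [RingHom.algebraMap_toAlgebra, h0', add_zero, hzd]

end Groth.CMMor
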