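import Groth.Agent.CMMor.BaseChange
import Groth.Agent.Gorenstein.BaseChange
import Groth.Agent.GrMod.Veronese.Gorenstein
import Groth.Agent.FlatMor2.NoethFibre

/-!
# Cohen–Macaulay local rings and finitely generated extensions of the ground field
-/

set_option linter.style.haveILetI false

universe u

open CategoryTheory CategoryTheory.Limits AlgebraicGeometry IsLocalRing TensorProduct

namespace Groth.CMMor

theorem isCM_stalk_Spec (R : CommRingCat.{u}) [LocCoh.IsCohenMacaulayRing R] (p : ↥(Spec R)) :
    LocCoh.IsCohenMacaulayLocalRing ((Spec R).presheaf.stalk p) :=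
  Groth.Ega4b.isCohenMacaulayLocalRing_of_ringEquiv
    (StructureSheaf.stalkIso R p).toRingEquiv
    (LocCoh.IsCohenMacaulayRing.isCohenMacaulayLocalRing_localization p.asIdeal)

/-- The local rings of a finitely generated extension of the ground field are Cohen–Macaulay exactly
when those below are. -/
theorem isCM_stalk_iff_of_essFiniteType {k K : Type u} [Field k] [Field K]
    (φ : CommRingCat.of k ⟶ CommRingCat.of K) (hφ : φ.hom.EssFiniteType) {Z Z' : Scheme.{u}}
    [IsLocallyNoetherian Z] (sZ : Z ⟶ Spec (CommRingCat.of k)) (sZ' : Z' ⟶ Spec (CommRingCat.of K))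
    (q : Z' ⟶ Z) (h : IsPullback q sZ' sZ (Spec.map φ)) (z' : Z') :
    LocCoh.IsCohenMacaulayLocalRing (Z'.presheaf.stalk z') ↔
      LocCoh.IsCohenMacaulayLocalRing (Z.presheaf.stalk (q.base z')) := by
  haveI : IsLocallyNoetherian Z' := Groth.FlatMor2.isLocallyNoetherian_of_isPullback_essFiniteType hφ h
  haveI : Flat q := MorphismProperty.of_isPullback (P := @Flat) h.flip (flat_SpecMap_field φ)
  letI := (q.stalkMap z').hom.toAlgebra
  haveI : IsLocalHom (algebraMap (Z.presheaf.stalk (q.base z')) (Z'.presheaf.stalk z')) :=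
    inferInstanceAs (IsLocalHom (q.stalkMap z').hom)
  haveI : Module.Flat (Z.presheaf.stalk (q.base z')) (Z'.presheaf.stalk z') := Flat.stalkMap q z'
  refine ⟨fun hZ' => isCM_of_flat_local _ (Z'.presheaf.stalk z') hZ', fun hZ => ?_⟩
  refine Groth.Calg4.isCohenMacaulayLocalRing_of_flat (Z.presheaf.stalk (q.base z')) _ hZ ?_
  -- the fibre is the spectrum of `K ⊗ κ`
  obtain ⟨e⟩ := Groth.Ega4b.nonempty_fiberStalk_equiv q z'
  refine Groth.Ega4b.isCohenMacaulayLocalRing_of_ringEquiv e.symm ?_
  let w := q.base z'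
  obtain ⟨ψ, hψ⟩ := Spec.map_surjective (Z.fromSpecResidueField w ≫ sZ)
  letI := φ.hom.toAlgebra
  letI : Algebra k (Z.residueField w) := ψ.hom.toAlgebra
  haveI : Algebra.EssFiniteType k K := hφ
  have hP : IsPullback (q.fiberι w ≫ sZ') (q.fiberToSpecResidueField w) (Spec.map φ) (Spec.map ψ) := by
    rw [hψ]
    exact (IsPullback.of_hasPullback q (Z.fromSpecResidueField w)).paste_horiz h.flip
  have hS := isPullback_SpecMap_of_isPushout _ _ _ _
    (CommRingCat.isPushout_tensorProduct k K (Z.residueField w))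
  let i := hP.isoIsPullback _ _ hS
  haveI hfield : IsRegularRing (Z.residueField w) := inferInstance
  haveI := GrothGoren.isGorensteinRing_of_isRegularRing (Z.residueField w)
  haveI := GrothGoren.isGorensteinRing_tensor_fg (k := k) (K := K) (IntermediateField.fg_top_iff.mpr ‹Algebra.EssFiniteType k K›) (Z.residueField w)
  haveI : LocCoh.IsCohenMacaulayRing ↑(CommRingCat.of (K ⊗[k] Z.residueField w)) :=
    GrothGr.isCohenMacaulayRing_of_gorenstein (K ⊗[k] Z.residueField w)
  have hcm := isCM_stalk_Spec (CommRingCat.of (K ⊗[k] Z.residueField w)) (i.hom.base (q.asFiber z'))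
  exact Groth.Ega4b.isCohenMacaulayLocalRing_of_ringEquiv
    (RingEquiv.ofBijective (i.hom.stalkMap (q.asFiber z')).hom (ConcreteCategory.bijective_of_isIso _)) hcm

end Groth.CMMor
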